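import Cfsg.Agent.H158.Pencil

/-!
# A pencil without common invariant parts, `|F| ≥ 3` (helper150)

The count of `H158/Pencil.lean` with a sharper inequality.
-/

set_option autoImplicit false

namespace Cfsg.Agent.H150.MF

open Module Polynomial Cfsg.Agent.H166.Cov Cfsg.Agent.H158.Pencil

universe u

variable {F : Type u} [Field F] {V W U : Type u} [AddCommGroup V] [Module F V]
  [AddCommGroup W] [Module F W] [AddCommGroup U] [Module F U]

theorem prod_step (q : ℝ) (m : ℕ) : ∏ i ∈ Finset.range (m + 1), (q ^ (m + 1) - q ^ i) =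
    (q ^ (m + 1) - 1) * (q ^ m * ∏ i ∈ Finset.range m, (q ^ m - q ^ i)) := by
  rw [Finset.prod_range_succ', pow_zero, mul_comm]
  congr 1
  have h1 : ∀ i, q ^ (m + 1) - q ^ (i + 1) = q * (q ^ m - q ^ i) := fun i => by ring
  rw [Finset.prod_congr rfl fun i _ => h1 i, Finset.prod_mul_distrib, Finset.prod_const, Finset.card_range]

/-- `∏ (1 - q^{-j}) ≥ 1 - q^{-1} - q^{-2} + q^{-m-1}` -/
theorem prod_low {q : ℝ} (hq : 3 ≤ q) (m : ℕ) :
    q ^ ((m + 1) * (m + 1)) * (q ^ (m + 3) - q ^ (m + 2) - q ^ (m + 1) + q) ≤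
      q ^ (m + 3) * ∏ i ∈ Finset.range (m + 1), (q ^ (m + 1) - q ^ i) := by
  induction m with
  | zero =>
    simp
    ring_nf
    exact le_refl _
  | succ m ih =>
    rw [prod_step]
    set A := ∏ i ∈ Finset.range (m + 1), (q ^ (m + 1) - q ^ i) with hA
    have h0 : (0 : ℝ) ≤ q := by linarith
    have h1 : (1 : ℝ) ≤ q ^ (m + 2) := one_le_pow₀ (by linarith)
    have h2 : (0 : ℝ) ≤ q ^ (m + 2) * (q ^ (m + 2) - 1) := mul_nonneg (by linarith) (by linarith)
    have h3 := mul_le_mul_of_nonneg_left ih h2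
    have e1 : q ^ (m + 1 + 3) * ((q ^ (m + 1 + 1) - 1) * (q ^ (m + 1) * A)) =
        q ^ (m + 2) * (q ^ (m + 2) - 1) * (q ^ (m + 3) * A) := by ring
    rw [e1]
    refine le_trans ?_ h3
    have h4 : (0 : ℝ) ≤ q ^ ((m + 1) * (m + 1)) * q ^ (m + 2) := by positivity
    have h5 : (0 : ℝ) ≤ q ^ (m + 1) - q := by
      have : q ^ 1 ≤ q ^ (m + 1) := pow_le_pow_right₀ (by linarith) (by omega)
      linarith
    have e2 : q ^ (m + 2) * (q ^ (m + 2) - 1) *
        (q ^ ((m + 1) * (m + 1)) * (q ^ (m + 3) - q ^ (m + 2) - q ^ (m + 1) + q)) -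
        q ^ ((m + 1 + 1) * (m + 1 + 1)) * (q ^ (m + 1 + 3) - q ^ (m + 1 + 2) - q ^ (m + 1 + 1) + q) =
        q ^ ((m + 1) * (m + 1)) * q ^ (m + 2) * (q ^ (m + 1) - q) := by ring
    have h6 := mul_nonneg h4 h5
    linarith

theorem prod_ineq3 {q m : ℕ} (hq : 3 ≤ q) :
    q ^ (m * m) < 2 * ∏ i : Fin m, (q ^ m - q ^ (i : ℕ)) := by
  rcases m with _ | m
  · simp
  have hq1 : (3 : ℝ) ≤ q := by exact_mod_cast hq
  have h := prod_low hq1 m
  set r : ℝ := ∏ i ∈ Finset.range (m + 1), ((q : ℝ) ^ (m + 1) - q ^ i) with hr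
  have hQ : (0 : ℝ) < (q : ℝ) ^ (m + 3) := by positivity
  have hP : (0 : ℝ) < (q : ℝ) ^ ((m + 1) * (m + 1)) := by positivity
  have h9 : (q : ℝ) ^ ((m + 1) * (m + 1)) < 2 * r := by
    have h10 : (q : ℝ) ^ (m + 3) * (q : ℝ) ^ ((m + 1) * (m + 1)) < (q : ℝ) ^ (m + 3) * (2 * r) := by
      have h11 : (q : ℝ) ^ (m + 3) < 2 * ((q : ℝ) ^ (m + 3) - q ^ (m + 2) - q ^ (m + 1) + q) := by
        have h12 : (0 : ℝ) < (q : ℝ) ^ (m + 1) * ((q : ℝ) ^ 2 - 2 * q - 2) := by
          apply mul_pos (by positivity)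
          nlinarith
        have e : 2 * ((q : ℝ) ^ (m + 3) - q ^ (m + 2) - q ^ (m + 1) + q) - (q : ℝ) ^ (m + 3) =
            (q : ℝ) ^ (m + 1) * ((q : ℝ) ^ 2 - 2 * q - 2) + 2 * q := by ring
        linarith
      have h13 := mul_lt_mul_of_pos_left h11 hP
      calc (q : ℝ) ^ (m + 3) * (q : ℝ) ^ ((m + 1) * (m + 1)) =
          (q : ℝ) ^ ((m + 1) * (m + 1)) * (q : ℝ) ^ (m + 3) := by ring
        _ < (q : ℝ) ^ ((m + 1) * (m + 1)) * (2 * ((q : ℝ) ^ (m + 3) - q ^ (m + 2) - q ^ (m + 1) + q)) := h13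
        _ = 2 * ((q : ℝ) ^ ((m + 1) * (m + 1)) * ((q : ℝ) ^ (m + 3) - q ^ (m + 2) - q ^ (m + 1) + q)) := by ring
        _ ≤ 2 * ((q : ℝ) ^ (m + 3) * r) := by linarith
        _ = _ := by ring
    exact lt_of_mul_lt_mul_left h10 hQ.le
  have h10 : ((∏ i : Fin (m + 1), (q ^ (m + 1) - q ^ (i : ℕ)) : ℕ) : ℝ) = r := by
    rw [Nat.cast_prod, hr, Finset.prod_range]
    refine Finset.prod_congr rfl fun i _ => ?_
    rw [Nat.cast_sub (Nat.pow_le_pow_right (by omega) i.2.le)]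
    push_cast
    rfl
  have : ((q ^ ((m + 1) * (m + 1)) : ℕ) : ℝ) < ((2 * ∏ i : Fin (m + 1), (q ^ (m + 1) - q ^ (i : ℕ)) : ℕ) : ℝ) := by
    rw [Nat.cast_mul, h10]
    push_cast
    exact_mod_cast h9
  exact_mod_cast this

theorem card_good3 [Finite F] (hq : 3 ≤ Nat.card F) [FiniteDimensional F W]
    [FiniteDimensional F U] {k : ℕ} (hW : finrank F W = k + 1)
    (hd : finrank F U = finrank F W + 1) (a : W →ₗ[F] U) (ha : Function.Injective a) :
    Nat.card (W →ₗ[F] U) < 2 * Nat.card (Good a) := by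
  classical
  have : Fintype F := Fintype.ofFinite F
  have : Finite W := Module.finite_of_finite F
  have : Finite U := Module.finite_of_finite F
  have : Finite (W →ₗ[F] U) := Finite.of_injective (fun f => (f : W → U)) DFunLike.coe_injective
  obtain ⟨u, hu⟩ : ∃ u, u ∉ LinearMap.range a := by
    by_contra hcon
    push Not at hcon
    have h1 : LinearMap.range a = ⊤ := by
      rw [eq_top_iff]; intro x _; exact hcon x
    have h2 := LinearMap.finrank_range_of_inj ha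
    rw [h1, finrank_top] at h2
    omega
  let e : W ≃ₗ[F] (Fin (k + 1) → F) := LinearEquiv.ofFinrankEq _ _ (by rw [hW]; simp)
  let Φ : GL (Fin (k + 1)) F × (Fin (k + 1) → F) → Good a := fun p =>
    ⟨mk a u (crd e p.1) p.2, mk_good ha hu _ _⟩
  have hΦ : Function.Injective Φ := by
    rintro ⟨M, c⟩ ⟨N, d⟩ h
    have h1 := congrArg Subtype.val h
    obtain ⟨h2, h3⟩ := mk_inj ha hu h1
    exact Prod.ext (crd_inj e h2) h3
  have h1 : Nat.card (GL (Fin (k + 1)) F × (Fin (k + 1) → F)) ≤ Nat.card (Good a) :=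
    Nat.card_le_card_of_injective Φ hΦ
  rw [Nat.card_prod, Matrix.card_GL_field, Nat.card_fun, Nat.card_eq_fintype_card (α := Fin (k+1)),
    Fintype.card_fin, ← Nat.card_eq_fintype_card (α := F)] at h1
  have h2 : Nat.card (W →ₗ[F] U) = Nat.card F ^ ((k + 1) * (k + 2)) := by
    rw [Module.natCard_eq_pow_finrank (K := F), finrank_linearMap, hd, hW]
  have h3 := prod_ineq3 (m := k + 1) hq
  rw [h2]
  have h4 : Nat.card F ^ ((k + 1) * (k + 2)) =
      Nat.card F ^ ((k + 1) * (k + 1)) * Nat.card F ^ (k + 1) := by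
    rw [← pow_add]; ring_nf
  rw [h4]
  have hpos : 0 < Nat.card F ^ (k + 1) := by
    apply pow_pos; omega
  calc _ < (2 * ∏ i : Fin (k + 1), (Nat.card F ^ (k + 1) - Nat.card F ^ (i : ℕ))) *
        Nat.card F ^ (k + 1) := (Nat.mul_lt_mul_right hpos).2 h3
    _ = 2 * ((∏ i : Fin (k + 1), (Nat.card F ^ (k + 1) - Nat.card F ^ (i : ℕ))) *
        Nat.card F ^ (k + 1)) := by ring
    _ ≤ _ := Nat.mul_le_mul_left _ h1

theorem exists_pencil3 [Finite F] (hq : 3 ≤ Nat.card F) [FiniteDimensional F W]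
    [FiniteDimensional F U] (hd : finrank F U = finrank F W + 1) (a b : W →ₗ[F] U)
    (ha : Function.Injective a) (hb : Function.Injective b) :
    ∃ D : W →ₗ[F] U, (∀ S : Submodule F W, (∀ x ∈ S, ∃ y ∈ S, D x = a y) → S = ⊥) ∧
      (∀ S : Submodule F W, (∀ x ∈ S, ∃ y ∈ S, D x = b y) → S = ⊥) := by
  classical
  have : Finite W := Module.finite_of_finite F
  have : Finite U := Module.finite_of_finite F
  have : Finite (W →ₗ[F] U) := Finite.of_injective (fun f => (f : W → U)) DFunLike.coe_injective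
  rcases Nat.eq_zero_or_pos (finrank F W) with h0 | h0
  · have h1 : ∀ x : W, x = 0 := by
      have := finrank_zero_iff.1 h0
      exact fun x => Subsingleton.elim _ _
    refine ⟨0, fun S _ => ?_, fun S _ => ?_⟩ <;>
    · rw [eq_bot_iff]; intro x _; rw [Submodule.mem_bot]; exact h1 x
  · obtain ⟨k, hk⟩ := Nat.exists_eq_succ_of_ne_zero h0.ne'
    have h1 := card_good3 hq hk hd a ha
    have h2 := card_good3 hq hk hd b hb
    by_contra hcon
    have hdis : Disjoint (Good a) (Good b) := by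
      rw [Set.disjoint_left]
      intro D hDa hDb
      exact hcon ⟨D, hDa, hDb⟩
    have h3 : (Good a ∪ Good b).ncard = (Good a).ncard + (Good b).ncard :=
      Set.ncard_union_eq hdis (Set.toFinite _) (Set.toFinite _)
    have h4 : (Good a ∪ Good b).ncard ≤ Nat.card (W →ₗ[F] U) := by
      rw [← Set.ncard_univ]
      exact Set.ncard_le_ncard (Set.subset_univ _) (Set.toFinite _)
    have h5 := Nat.card_coe_set_eq (Good a)
    have h6 := Nat.card_coe_set_eq (Good b)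
    omega

end Cfsg.Agent.H150.MF
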