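import Cfsg.Agent.H166.Cov.Core
import Cfsg.Agent.H150.MF.Pencil

/-!
# The main factorization theorem, `|F| ≥ 3` (helper150, after `H166/Cov/ThmH`)
-/

set_option autoImplicit false

namespace Cfsg.Agent.H150.MF

open Module Polynomial Cfsg.Agent.H166.Cov

universe u

variable {F : Type u} [Field F] {V W U : Type u} [AddCommGroup V] [Module F V]
  [AddCommGroup W] [Module F W] [AddCommGroup U] [Module F U]

/-- **The main factorization theorem.** -/
theorem thmH3 [Finite F] (hq : 3 ≤ Nat.card F) [FiniteDimensional F V] (hn : 2 ≤ finrank F V)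
    {g : End F V} (hg : NS g) (hg0 : LinearMap.det g ≠ 0) {ν : F} {p f : F[X]} (hp : p.Monic)
    (hpd : p.natDegree + 1 = finrank F V) (hp0 : p.coeff 0 ≠ 0) (hpν : p.eval ν ≠ 0) (hf : f.Monic)
    (hfd : f.natDegree = finrank F V)
    (hc : (-1) ^ finrank F V * f.coeff 0 =
      LinearMap.det g * ((-1) ^ finrank F V * ((X - C ν) * p).coeff 0)) :
    ∃ (M Y : End F V) (φ : V →ₗ[F] F), Coc M ∧ LinearMap.charpoly M = (X - C ν) * p ∧
      LinearMap.charpoly Y = f ∧ g * M = Y ∧ Obs φ Y ∧ ∀ x, φ (M x) = ν * φ x := by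
  obtain ⟨φ, hφ⟩ := hg.exists_dual
  let e : V ≃ₗ[F] V := LinearMap.equivOfDetNeZero g hg0
  have he : ∀ x, e x = g x := fun x => rfl
  -- the hyperplane
  let H : Submodule F V := LinearMap.ker φ
  have hφ0 : φ ≠ 0 := by
    rintro rfl
    exact hφ 0 (by ext; simp)
  obtain ⟨v, hv⟩ : ∃ v, φ v = 1 := by
    obtain ⟨w, hw⟩ : ∃ w, φ w ≠ 0 := by
      by_contra h
      push Not at h
      exact hφ0 (LinearMap.ext h)
    exact ⟨(φ w)⁻¹ • w, by rw [map_smul, smul_eq_mul, inv_mul_cancel₀ hw]⟩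
  have hHd : finrank F H + 1 = finrank F V := by
    have h1 := LinearMap.finrank_range_add_finrank_ker φ
    have h2 : LinearMap.range φ = ⊤ := LinearMap.range_eq_top.2 fun c => ⟨c • v, by simp [hv]⟩
    rw [h2, finrank_top, finrank_self] at h1
    change 1 + finrank F H = finrank F V at h1
    omega
  let χ : H →ₗ[F] F := (φ ∘ₗ g) ∘ₗ H.subtype
  have hχ : ∀ h : H, χ h = φ (g h) := fun h => rfl
  have hχ0 : χ ≠ 0 := by
    intro h
    apply hφ (φ (g v))
    ext x
    have h1 : χ ⟨x - φ x • v, by simp [H, hv]⟩ = 0 := by rw [h]; rfl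
    rw [hχ] at h1
    simp only [map_sub, map_smul, smul_eq_mul] at h1
    rw [LinearMap.comp_apply, LinearMap.smul_apply, smul_eq_mul, sub_eq_zero.1 h1, mul_comm]
  let K : Submodule F H := LinearMap.ker χ
  have hKd : finrank F H = finrank F K + 1 := by
    have h1 := LinearMap.finrank_range_add_finrank_ker χ
    have h2 : LinearMap.range χ = ⊤ := by
      rw [LinearMap.range_eq_top]
      exact LinearMap.surjective hχ0
    rw [h2, finrank_top, finrank_self] at h1
    change 1 + finrank F K = finrank F H at h1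
    omega
  let b : K →ₗ[F] H := K.subtype
  let a : K →ₗ[F] H := LinearMap.codRestrict H (g ∘ₗ H.subtype ∘ₗ K.subtype) fun k => k.2
  have ha : ∀ k : K, ((a k : H) : V) = g (k : H) := fun k => rfl
  have hainj : Function.Injective a := by
    intro x y h
    have h1 := congrArg (fun z : H => (z : V)) h
    simp only [ha, ← he] at h1
    exact Subtype.ext (Subtype.ext (e.injective h1))
  obtain ⟨D, hDa, hDb⟩ := exists_pencil3 hq hKd a b hainj Subtype.val_injective
  -- the map on the hyperplane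
  let φ' : H →ₗ[F] F := (φ ∘ₗ (e.symm : V →ₗ[F] V)) ∘ₗ H.subtype
  have hφ' : ∀ h : H, φ' h = φ (e.symm h) := fun h => rfl
  have hker : ∀ x, φ' x = 0 ↔ ∃ w, a w = x := by
    intro x
    constructor
    · intro h
      rw [hφ'] at h
      refine ⟨⟨⟨e.symm x, h⟩, ?_⟩, ?_⟩
      · change φ (g (e.symm x)) = 0
        rw [← he, e.apply_symm_apply]; exact x.2
      · apply Subtype.ext
        rw [ha]
        change g (e.symm x) = x
        rw [← he, e.apply_symm_apply]
    · rintro ⟨w, rfl⟩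
      rw [hφ', ha, ← he, e.symm_apply_apply]
      exact w.1.2
  obtain ⟨Z, hZa, hZO, hZc⟩ := exists_extend (p := p) hainj hker hDa hp (by omega)
  have hZinj : Function.Injective Z := by
    have h1 : LinearMap.det Z ≠ 0 := by
      rw [det_eq_charpoly, hZc]
      exact mul_ne_zero (pow_ne_zero _ (by simp)) hp0
    exact (LinearMap.equivOfDetNeZero Z h1).injective
  -- the projection onto the hyperplane
  let π : V →ₗ[F] H := LinearMap.codRestrict H (LinearMap.id - φ.smulRight v) fun x => by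
    simp [H, hv]
  have hπ : ∀ x, ((π x : H) : V) = x - φ x • v := fun x => rfl
  have hπH : ∀ x : H, π x = x := by
    intro x
    apply Subtype.ext
    rw [hπ, show φ (x : V) = 0 from x.2, zero_smul, sub_zero]
  let Y0 : End F V := g ∘ₗ H.subtype ∘ₗ Z ∘ₗ π
  have hY0 : ∀ x, Y0 x = g (Z (π x) : H) := fun x => rfl
  have hO : Obs φ Y0 := by
    intro S h1 h2
    have h3 := hDb (((S.comap H.subtype).map Z).comap b) (by
      intro w hw
      obtain ⟨h, hh, hw⟩ := hw
      -- `a w ∈ S`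
      have h4 : ((a w : H) : V) ∈ S := by
        rw [ha]
        have h5 := h2 h hh
        rw [hY0, hπH, hw] at h5
        exact h5
      have h5 : χ (D w) = 0 := by
        rw [hχ, ← hZa]
        have h6 := h1 _ (h2 _ h4)
        rw [hY0, hπH] at h6
        exact h6
      refine ⟨⟨D w, h5⟩, ?_, rfl⟩
      exact ⟨a w, h4, hZa w⟩)
    rw [Submodule.eq_bot_iff] at h3 ⊢
    intro x hx
    have hxH : x ∈ H := h1 x hx
    have h4 : χ (Z ⟨x, hxH⟩) = 0 := by
      rw [hχ]
      have h6 := h1 _ (h2 _ hx)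
      rw [hY0] at h6
      have h7 := hπH ⟨x, hxH⟩
      rw [show π x = ⟨x, hxH⟩ from h7] at h6
      exact h6
    have h5 := h3 ⟨Z ⟨x, hxH⟩, h4⟩ ⟨⟨x, hxH⟩, hx, rfl⟩
    have h6 : Z ⟨x, hxH⟩ = 0 := congrArg Subtype.val h5
    rw [← map_zero Z] at h6
    exact congrArg Subtype.val (hZinj h6)
  obtain ⟨c, hYc⟩ := exists_charpoly_add hO hf hfd
  set Y : End F V := Y0 + φ.smulRight c with hYdef
  let M : End F V := (e.symm : V →ₗ[F] V) ∘ₗ Y
  have hgM : g * M = Y := by
    ext x
    change g (e.symm (Y x)) = Y x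
    rw [← he, e.apply_symm_apply]
  have hM : ∀ x, M x = (Z (π x) : H) + φ x • e.symm c := by
    intro x
    change e.symm (Y x) = _
    rw [hYdef, LinearMap.add_apply, map_add, hY0, ← he, e.symm_apply_apply, LinearMap.smulRight_apply,
      map_smul]
  have hφM : ∀ x, φ (M x) = φ (e.symm c) * φ x := by
    intro x
    rw [hM, map_add, show φ ((Z (π x) : H) : V) = 0 from (Z (π x)).2, zero_add, map_smul, smul_eq_mul,
      mul_comm]
  have hOY : Obs φ Y := hO.congr fun x hx => by
    rw [hYdef, LinearMap.add_apply, LinearMap.smulRight_apply, hx, zero_smul, add_zero]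
  -- `M` in block form
  have hsim : ∃ R : F →ₗ[F] H, Sim (up Z R (φ (e.symm c) • (1 : End F F))) M := by
    let E : (H × F) ≃ₗ[F] V :=
      { toFun := fun x => (x.1 : V) + x.2 • v
        map_add' := fun x y => by simp only [Prod.fst_add, Prod.snd_add, Submodule.coe_add]; module
        map_smul' := fun r x => by
          simp only [Prod.smul_fst, Prod.smul_snd, Submodule.coe_smul, RingHom.id_apply, smul_eq_mul]
          module
        invFun := fun x => (π x, φ x)
        left_inv := fun x => by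
          have h1 : φ ((x.1 : V) + x.2 • v) = x.2 := by
            rw [map_add, map_smul, hv, show φ (x.1 : V) = 0 from x.1.2, zero_add, smul_eq_mul, mul_one]
          refine Prod.ext (Subtype.ext ?_) h1
          rw [hπ, h1, add_sub_cancel_right]
        right_inv := fun x => by
          change ((π x : H) : V) + φ x • v = x
          rw [hπ, sub_add_cancel] }
    have hE : ∀ x, E x = (x.1 : V) + x.2 • v := fun x => rfl
    refine ⟨LinearMap.toSpanSingleton F H (π (e.symm c)), E, fun x => ?_⟩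
    have h1 : φ ((x.1 : V) + x.2 • v) = x.2 := by
      rw [map_add, map_smul, hv, show φ (x.1 : V) = 0 from x.1.2, zero_add, smul_eq_mul, mul_one]
    have h2 : π ((x.1 : V) + x.2 • v) = x.1 := by
      apply Subtype.ext
      rw [hπ, h1, add_sub_cancel_right]
    rw [hE, hE, hM, h1, h2, up_apply]
    simp only [Submodule.coe_add, LinearMap.toSpanSingleton_apply, Submodule.coe_smul,
      LinearMap.smul_apply, Module.End.one_apply, hπ, smul_eq_mul]
    module
  obtain ⟨R, hR⟩ := hsim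
  have hMc : LinearMap.charpoly M = (X - C (φ (e.symm c))) * p := by
    rw [← hR.charpoly, charpoly_up, hZc, charpoly_smul_one, mul_comm]
  -- the eigenvalue
  have hνeq : φ (e.symm c) = ν := by
    have h1 : LinearMap.det Y = LinearMap.det g * LinearMap.det M := by rw [← hgM, map_mul]
    rw [det_eq_charpoly Y, det_eq_charpoly M, hYc, hMc, hc] at h1
    have h2 := mul_left_cancel₀ hg0 h1
    have h3 := mul_left_cancel₀ (pow_ne_zero _ (by simp : (-1 : F) ≠ 0)) h2
    rw [mul_coeff_zero, mul_coeff_zero] at h3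
    have h4 := mul_right_cancel₀ hp0 h3
    simpa using h4.symm
  rw [hνeq] at hMc hφM hR
  refine ⟨M, Y, φ, ?_, hMc, hYc, hgM, hOY, hφM⟩
  refine Coc.sim hR (Coc.up R ⟨φ', hZO⟩ (coc_smul_one ν) ?_)
  rw [hZc, charpoly_smul_one]
  have h5 : IsCoprime (X - C ν) p := by
    rw [(Polynomial.irreducible_X_sub_C ν).coprime_iff_not_dvd, Polynomial.dvd_iff_isRoot]
    exact hpν
  exact h5.symm

/-- Theorem H in terms of similarity classes -/
theorem exists_fac3 [Finite F] (hq : 3 ≤ Nat.card F) [FiniteDimensional F V] (hn : 2 ≤ finrank F V)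
    {g : End F V} (hg : NS g) {ν : F} {M₀ X₀ : End F V} (hM : Nice ν M₀) (hX : Coc X₀)
    (hM0 : LinearMap.det M₀ ≠ 0) (hX0 : LinearMap.det X₀ ≠ 0)
    (hdet : LinearMap.det g * LinearMap.det M₀ = LinearMap.det X₀) :
    ∃ (M Y : End F V) (φ : V →ₗ[F] F), Sim M₀ M ∧ Sim X₀ Y ∧ g * M = Y ∧ Obs φ Y ∧
      ∀ x, φ (M x) = ν * φ x := by
  obtain ⟨hMc, p, hp, hpν⟩ := hM
  have hpm : p.Monic := (monic_X_sub_C ν).of_mul_monic_left (hp ▸ M₀.charpoly_monic)
  have hd : p.natDegree + 1 = finrank F V := by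
    rw [← M₀.charpoly_natDegree, hp, (monic_X_sub_C ν).natDegree_mul hpm, natDegree_X_sub_C, add_comm]
  have hg0 : LinearMap.det g ≠ 0 := by
    rintro h
    rw [h, zero_mul] at hdet
    exact hX0 hdet.symm
  have hp0 : p.coeff 0 ≠ 0 := by
    intro h
    apply hM0
    rw [det_eq_charpoly, hp, mul_coeff_zero, h, mul_zero, mul_zero]
  obtain ⟨M, Y, φ, h1, h2, h3, h4, h5, h6⟩ := thmH3 hq hn hg hg0 hpm hd hp0 hpν X₀.charpoly_monic
    X₀.charpoly_natDegree (by rw [← hp, ← det_eq_charpoly, ← det_eq_charpoly, hdet])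
  exact ⟨M, Y, φ, Sim.of_coc hMc h1 (by rw [h2, hp]), Sim.of_coc hX ⟨φ, h5⟩ h3.symm, h4, h5, h6⟩

/-- every nonscalar `g` is a product of a given nice and a given cyclic class -/
theorem exists_fac3' [Finite F] (hq : 3 ≤ Nat.card F) [FiniteDimensional F V] (hn : 2 ≤ finrank F V)
    {g : End F V} (hg : NS g) {ν : F} {M₀ X₀ : End F V} (hM : Nice ν M₀) (hX : Coc X₀)
    (hg0 : LinearMap.det g ≠ 0) (hdet : LinearMap.det g = LinearMap.det M₀ * LinearMap.det X₀) :
    ∃ (M X : End F V) (φ : V →ₗ[F] F), Sim M₀ M ∧ Sim X₀ X ∧ g = M * X ∧ Obs φ X ∧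
      ∀ x, φ (M x) = ν * φ x := by
  have hM0 : LinearMap.det M₀ ≠ 0 := fun h => hg0 (by rw [hdet, h, zero_mul])
  have hX0 : LinearMap.det X₀ ≠ 0 := fun h => hg0 (by rw [hdet, h, mul_zero])
  obtain ⟨g', hg1, hg2⟩ := exists_inv hg0
  obtain ⟨X', hX1, hX2⟩ := exists_inv hX0
  obtain ⟨φ₀, hφ₀⟩ := hX
  have hd1 : LinearMap.det g * LinearMap.det g' = 1 := by rw [← map_mul, hg1, map_one]
  have hd2 : LinearMap.det X₀ * LinearMap.det X' = 1 := by rw [← map_mul, hX1, map_one]
  obtain ⟨M, Y, φ, h1, h2, h3, h4, h5⟩ := exists_fac3 hq hn (hg.inv hg1) hM (X₀ := X')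
    ⟨φ₀, hφ₀.inv hX1⟩ hM0 (fun h => by rw [h, mul_zero] at hd2; exact zero_ne_one hd2) (by
      rw [hdet] at hd1
      have h0 : LinearMap.det X₀ * (LinearMap.det g' * LinearMap.det M₀) =
        LinearMap.det X₀ * LinearMap.det X' := by rw [hd2, ← hd1]; ring
      exact mul_left_cancel₀ hX0 h0)
  have hY0 : LinearMap.det Y ≠ 0 := by
    rw [← h2.det]
    exact fun h => by rw [h, mul_zero] at hd2; exact zero_ne_one hd2
  obtain ⟨X, hY1, hY2⟩ := exists_inv hY0
  refine ⟨M, X, φ, h1, ?_, ?_, h4.inv hY1, h5⟩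
  · exact Sim.inv h2 hX2 hY2
  · have h6 : g * Y = M := by rw [← h3, ← mul_assoc, hg1, one_mul]
    rw [← h6, mul_assoc, hY1, mul_one]


end Cfsg.Agent.H150.MF
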