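import Mathlib
import Cfsg.Agent.H166.Cov.SL
import Cfsg.Agent.H166.Cov.Scal
import Cfsg.Agent.H166.Cov.Merge
import Cfsg.Agent.H150.MF.ThmH
import Cfsg.Agent.H162.GaussSL

/-!
# Factorisations in `SL_n(q)`, `q ≥ 3` (helper150)

* `Cls c` : `c` is cyclic and its centralizer has all determinants;
* `cls_of_nice` : charpoly `(X - ν) p`, `p` squarefree, `p ν ≠ 0`;
* `cls_of_irreducible`;
* `mf_sl` : `|F| ≥ 3`, `c₀` with charpoly `(X - ν) p` as above, `Cls c₁`: every nonscalar `A ∈ SL_n(F)` is a product of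
  a conjugate of `c₀` and a conjugate of `c₁` (under `SL_n(F)`);
* `mf_lu` : `L U` (lower times upper unitriangular) is a product of a conjugate of `c₀` and a conjugate of `c₀⁻¹`;
* `mf_poly` : the same for the element `c₀` with a given characteristic polynomial `(X - ν) p`.
-/

set_option autoImplicit false

namespace Cfsg.Agent.H150.MF

open Module Polynomial Cfsg.Agent.H166.Cov

universe u

variable {F : Type u} [Field F]

theorem coc_of_squarefree {m : ℕ} {T : End F (Fin m → F)} (h : Squarefree (LinearMap.charpoly T)) : Coc T := by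
  obtain ⟨L, hL, h1, h2, -⟩ := exists_dec T
  have h3 := charpoly_dec hL
  match L, hL, h1, h2, h3 with
  | [], hL, _, _, _ =>
    refine ⟨0, fun S _ _ => ?_⟩
    change m = 0 at hL
    subst hL
    rw [Submodule.eq_bot_iff]
    exact fun x _ => Subsingleton.elim _ _
  | [f], hL, _, _, _ => exact (dec_single hL).1
  | f :: g :: L, _, _, h2, h3 =>
    exfalso
    have h4 : ¬ IsCoprime f g := (List.pairwise_cons.1 h2).1 g (by simp)
    apply h4
    rw [h3] at h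
    have h5 : f * g ∣ (f :: g :: L).prod := by
      rw [List.prod_cons, List.prod_cons, ← mul_assoc]
      exact dvd_mul_right _ _
    exact (squarefree_mul_iff.1 (h.squarefree_of_dvd h5)).1.isCoprime

/-- `c` is cyclic and its centralizer has all determinants -/
def Cls {n : ℕ} (c : Matrix (Fin n) (Fin n) F) : Prop := Coc (Matrix.toLin' c) ∧ Full (Matrix.toLin' c)

/-- cyclic, with a simple rational eigenvalue -/
def NiceM {n : ℕ} (c : Matrix (Fin n) (Fin n) F) : Prop := ∃ ν : F, Nice ν (Matrix.toLin' c)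

theorem niceM_of {n : ℕ} {c : Matrix (Fin n) (Fin n) F} {ν : F} {p : F[X]} (h : c.charpoly = (X - C ν) * p)
    (hp : Squarefree p) (hν : p.eval ν ≠ 0) : NiceM c := by
  refine ⟨ν, coc_of_squarefree ?_, p, by rw [Matrix.charpoly_toLin', h], hν⟩
  rw [Matrix.charpoly_toLin', h, squarefree_mul_iff]
  refine ⟨?_, (irreducible_X_sub_C ν).squarefree, hp⟩
  refine (irreducible_X_sub_C ν).isRelPrime_iff_not_dvd.2 ?_
  rw [dvd_iff_isRoot]
  exact hν

theorem NiceM.cls {n : ℕ} {c : Matrix (Fin n) (Fin n) F} (h : NiceM c) : Cls c := by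
  obtain ⟨ν, h⟩ := h
  exact ⟨h.coc, Full.of_nice h⟩

theorem cls_of_irreducible [Finite F] {n : ℕ} {c : Matrix (Fin n) (Fin n) F} (h : Irreducible c.charpoly) : Cls c := by
  refine ⟨coc_of_squarefree ?_, Full.of_irreducible ?_⟩
  · rw [Matrix.charpoly_toLin']
    exact h.squarefree
  · rw [Matrix.charpoly_toLin']
    exact h

theorem ns_toLin {n : ℕ} {A : Matrix (Fin n) (Fin n) F} (h : ∀ a : F, A ≠ a • (1 : Matrix (Fin n) (Fin n) F)) :
    NS (Matrix.toLin' A) := by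
  intro a ha
  apply h a
  apply Matrix.toLin'.injective
  rw [ha, map_smul, Matrix.toLin'_one]
  rfl

theorem sl_of_sims {n : ℕ} (c : Matrix.SpecialLinearGroup (Fin n) F) {T : End F (Fin n → F)}
    (h : SimS (Matrix.toLin' (c : Matrix (Fin n) (Fin n) F)) T) :
    ∃ g : Matrix.SpecialLinearGroup (Fin n) F,
      LinearMap.toMatrix' T = ((g * c * g⁻¹ : Matrix.SpecialLinearGroup (Fin n) F) : Matrix (Fin n) (Fin n) F) := by
  obtain ⟨e, he, h⟩ := h
  have h1 : (LinearMap.toMatrix' (e : (Fin n → F) →ₗ[F] (Fin n → F))).det = 1 := by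
    rw [LinearMap.det_toMatrix', he]
  have h2 : LinearMap.toMatrix' (e : (Fin n → F) →ₗ[F] (Fin n → F)) * (c : Matrix (Fin n) (Fin n) F) =
      LinearMap.toMatrix' T * LinearMap.toMatrix' (e : (Fin n → F) →ₗ[F] (Fin n → F)) := by
    apply Matrix.toLin'.injective
    rw [Matrix.toLin'_mul, Matrix.toLin'_mul, Matrix.toLin'_toMatrix', Matrix.toLin'_toMatrix']
    exact LinearMap.ext fun x => h x
  obtain ⟨g, hg⟩ : ∃ g : Matrix.SpecialLinearGroup (Fin n) F,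
      (g : Matrix (Fin n) (Fin n) F) = LinearMap.toMatrix' (e : (Fin n → F) →ₗ[F] (Fin n → F)) := ⟨⟨_, h1⟩, rfl⟩
  rw [← hg] at h2
  refine ⟨g, ?_⟩
  rw [Matrix.SpecialLinearGroup.coe_mul, Matrix.SpecialLinearGroup.coe_mul, h2, mul_assoc,
    ← Matrix.SpecialLinearGroup.coe_mul, mul_inv_cancel, Matrix.SpecialLinearGroup.coe_one, mul_one]

/-- conjugacy in `SL_n(F)` -/
theorem exists_conj {n : ℕ} {c d : Matrix.SpecialLinearGroup (Fin n) F}
    (hc : Cls (c : Matrix (Fin n) (Fin n) F)) (hd : Cls (d : Matrix (Fin n) (Fin n) F))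
    (h : (c : Matrix (Fin n) (Fin n) F).charpoly = (d : Matrix (Fin n) (Fin n) F).charpoly) :
    ∃ g : Matrix.SpecialLinearGroup (Fin n) F, d = g * c * g⁻¹ := by
  have h1 : Sim (Matrix.toLin' (c : Matrix (Fin n) (Fin n) F)) (Matrix.toLin' (d : Matrix (Fin n) (Fin n) F)) :=
    Sim.of_coc hc.1 hd.1 (by rw [Matrix.charpoly_toLin', Matrix.charpoly_toLin', h])
  obtain ⟨g, hg⟩ := sl_of_sims c (hc.2.sims h1)
  refine ⟨g, Subtype.ext ?_⟩
  rw [← hg, LinearMap.toMatrix'_toLin']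

/-- **The factorisation.** -/
theorem mf_sl [Finite F] (hq : 3 ≤ Nat.card F) {n : ℕ} (hn : 2 ≤ n) {c₀ c₁ : Matrix.SpecialLinearGroup (Fin n) F}
    (h0 : NiceM (c₀ : Matrix (Fin n) (Fin n) F)) (h1 : Cls (c₁ : Matrix (Fin n) (Fin n) F))
    (A : Matrix.SpecialLinearGroup (Fin n) F)
    (hA : ∀ a : F, (A : Matrix (Fin n) (Fin n) F) ≠ a • (1 : Matrix (Fin n) (Fin n) F)) :
    ∃ g h : Matrix.SpecialLinearGroup (Fin n) F, A = (g * c₀ * g⁻¹) * (h * c₁ * h⁻¹) := by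
  obtain ⟨ν, h0⟩ := h0
  have hf : finrank F (Fin n → F) = n := finrank_fin_fun F
  obtain ⟨M, X, φ, h2, h3, h4, -, -⟩ := exists_fac3' (V := Fin n → F) hq (by rw [hf]; exact hn) (ns_toLin hA) h0 h1.1
    (by rw [LinearMap.det_toLin', A.2]; exact one_ne_zero)
    (by rw [LinearMap.det_toLin', LinearMap.det_toLin', LinearMap.det_toLin', A.2, c₀.2, c₁.2, one_mul])
  obtain ⟨g, hg⟩ := sl_of_sims c₀ ((Full.of_nice h0).sims h2)
  obtain ⟨h, hh⟩ := sl_of_sims c₁ (h1.2.sims h3)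
  refine ⟨g, h, Subtype.ext ?_⟩
  rw [Matrix.SpecialLinearGroup.coe_mul, ← hg, ← hh, ← LinearMap.toMatrix'_mul, ← h4, LinearMap.toMatrix'_toLin']

theorem Nice.of_inv {V : Type u} [AddCommGroup V] [Module F V] [FiniteDimensional F V] {S T : End F V} {ν : F}
    (hS : Nice ν S) (h1 : S * T = 1) (h2 : T * S = 1) : Cfsg.Agent.H166.Cov.Coc T ∧ Full T := by
  obtain ⟨φ, hφ⟩ := hS.1
  refine ⟨⟨φ, hφ.inv h1⟩, fun c hc => ?_⟩
  obtain ⟨e, he, h3⟩ := Full.of_nice hS c hc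
  refine ⟨e, he, fun x => ?_⟩
  have h4 : ∀ y, T (S y) = y := fun y => LinearMap.congr_fun h2 y
  have h5 : ∀ y, S (T y) = y := fun y => LinearMap.congr_fun h1 y
  have h6 := h3 (T x)
  rw [h5] at h6
  rw [h6, h4]

theorem NiceM.cls_inv {n : ℕ} {c : Matrix.SpecialLinearGroup (Fin n) F} (h : NiceM (c : Matrix (Fin n) (Fin n) F)) :
    Cls ((c⁻¹ : Matrix.SpecialLinearGroup (Fin n) F) : Matrix (Fin n) (Fin n) F) := by
  obtain ⟨ν, h⟩ := h
  refine Nice.of_inv h ?_ ?_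
  · rw [Module.End.mul_eq_comp, ← Matrix.toLin'_mul, ← Matrix.SpecialLinearGroup.coe_mul, mul_inv_cancel,
      Matrix.SpecialLinearGroup.coe_one, Matrix.toLin'_one]
    rfl
  · rw [Module.End.mul_eq_comp, ← Matrix.toLin'_mul, ← Matrix.SpecialLinearGroup.coe_mul, inv_mul_cancel,
      Matrix.SpecialLinearGroup.coe_one, Matrix.toLin'_one]
    rfl

/-- **lower times upper unitriangular** -/
theorem mf_lu [Finite F] (hq : 3 ≤ Nat.card F) {n : ℕ} (hn : 2 ≤ n) {c₀ : Matrix.SpecialLinearGroup (Fin n) F}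
    (h0 : NiceM (c₀ : Matrix (Fin n) (Fin n) F)) {L U : Matrix.SpecialLinearGroup (Fin n) F}
    (hL : L ∈ Cfsg.Agent.H162.GaussSL.LT n F) (hU : U ∈ Cfsg.Agent.H162.GaussSL.UT n F) :
    ∃ g h : Matrix.SpecialLinearGroup (Fin n) F, L * U = (g * c₀ * g⁻¹) * (h * c₀⁻¹ * h⁻¹) := by
  by_cases hc : ∃ c : F, (L * U).1 = c • (1 : Matrix (Fin n) (Fin n) F)
  · obtain ⟨c, hc⟩ := hc
    obtain ⟨rfl, rfl⟩ := Cfsg.Agent.H162.GaussSL.scalar_case (by omega) hL hU hc
    exact ⟨1, 1, by group⟩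
  · push Not at hc
    exact mf_sl hq hn h0 h0.cls_inv _ hc

/-- two classes: `c₁` with `Cls c₁`, `c₁` conjugate to `c₀⁻¹` or not a factor of `1` -/
theorem mf_lu_two [Finite F] (hq : 3 ≤ Nat.card F) {n : ℕ} (hn : 2 ≤ n)
    {c₀ c₁ : Matrix.SpecialLinearGroup (Fin n) F} (h0 : NiceM (c₀ : Matrix (Fin n) (Fin n) F))
    (h1 : Cls (c₁ : Matrix (Fin n) (Fin n) F)) {L U : Matrix.SpecialLinearGroup (Fin n) F}
    (hL : L ∈ Cfsg.Agent.H162.GaussSL.LT n F) (hU : U ∈ Cfsg.Agent.H162.GaussSL.UT n F) (hLU : L * U ≠ 1) :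
    ∃ g h : Matrix.SpecialLinearGroup (Fin n) F, L * U = (g * c₀ * g⁻¹) * (h * c₁ * h⁻¹) := by
  refine mf_sl hq hn h0 h1 _ fun c hc => hLU ?_
  obtain ⟨rfl, rfl⟩ := Cfsg.Agent.H162.GaussSL.scalar_case (by omega) hL hU hc
  rw [mul_one]

/-- an element of `SL_n(F)` with a given characteristic polynomial `(X - ν) p` -/
theorem exists_niceM {n : ℕ} {ν : F} {p : F[X]} (hp : p.Monic) (hpd : p.natDegree + 1 = n)
    (h0 : ((X - C ν) * p).coeff 0 = (-1) ^ n) (hν : p.eval ν ≠ 0) :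
    ∃ c₀ : Matrix.SpecialLinearGroup (Fin n) F, (c₀ : Matrix (Fin n) (Fin n) F).charpoly = (X - C ν) * p ∧
      NiceM (c₀ : Matrix (Fin n) (Fin n) F) := by
  have hm : ((X - C ν) * p).Monic := (monic_X_sub_C ν).mul hp
  have hd : ((X - C ν) * p).natDegree = n := by
    rw [(monic_X_sub_C ν).natDegree_mul hp, natDegree_X_sub_C, add_comm, hpd]
  obtain ⟨T, hT, hTc⟩ := exists_coc (V := Fin n → F) hm (by rw [hd, finrank_fin_fun])
  have hdet : (LinearMap.toMatrix' T).det = 1 := by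
    rw [LinearMap.det_toMatrix', det_eq_charpoly, hTc, h0, finrank_fin_fun, ← pow_add, ← two_mul, pow_mul]
    simp
  refine ⟨⟨_, hdet⟩, ?_, ν, ?_⟩
  · change (LinearMap.toMatrix' T).charpoly = _
    rw [← Matrix.charpoly_toLin', Matrix.toLin'_toMatrix', hTc]
  · change Nice ν (Matrix.toLin' (LinearMap.toMatrix' T))
    rw [Matrix.toLin'_toMatrix']
    exact ⟨hT, p, hTc, hν⟩

/-- **the factorisation with a given characteristic polynomial** -/
theorem mf_poly [Finite F] (hq : 3 ≤ Nat.card F) {n : ℕ} (hn : 2 ≤ n) {ν : F} {p : F[X]} (hp : p.Monic)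
    (hpd : p.natDegree + 1 = n) (h0 : ((X - C ν) * p).coeff 0 = (-1) ^ n) (hν : p.eval ν ≠ 0) :
    ∃ c₀ : Matrix.SpecialLinearGroup (Fin n) F, (c₀ : Matrix (Fin n) (Fin n) F).charpoly = (X - C ν) * p ∧
      NiceM (c₀ : Matrix (Fin n) (Fin n) F) ∧
      ∀ L ∈ Cfsg.Agent.H162.GaussSL.LT n F, ∀ U ∈ Cfsg.Agent.H162.GaussSL.UT n F,
        ∃ g h : Matrix.SpecialLinearGroup (Fin n) F, L * U = (g * c₀ * g⁻¹) * (h * c₀⁻¹ * h⁻¹) := by
  obtain ⟨c₀, h1, h2⟩ := exists_niceM hp hpd h0 hν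
  exact ⟨c₀, h1, h2, fun L hL U hU => mf_lu hq hn h2 hL hU⟩

end Cfsg.Agent.H150.MF
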